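import Mathlib
import Groth.Agent.Lib.Lead.QC.InvBasis
import Groth.Agent.Lib.Lead.QC.StalkNbhd

set_option autoImplicit false
universe u
open CategoryTheory AlgebraicGeometry TopologicalSpace Opposite

namespace Groth.Agent.H5.SepPT

open Groth.Agent.LD.QC

variable {X : Scheme.{u}}

/-- the stalk of a module with a local basis is free of rank one on the germ of the basis. -/
theorem bijective_toSpanSingleton_germ (L : X.Modules) (U : X.Opens) (e : Γ(L, U))
    (he : IsBasisOver L U e) (x : X) (hx : x ∈ U) :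
    Function.Bijective (LinearMap.toSpanSingleton (X.presheaf.stalk x) (L.presheaf.stalk x)
      (L.presheaf.germ U x hx e)) := by
  constructor
  · rw [injective_iff_map_eq_zero]
    intro a ha
    obtain ⟨V', hxV', a', rfl⟩ := TopCat.Presheaf.exists_germ_eq X.presheaf a
    have hxV : x ∈ V' ⊓ U := ⟨hxV', hx⟩
    rw [LinearMap.toSpanSingleton_apply,
      ← sgerm_res x (inf_le_left : V' ⊓ U ≤ V') hxV a',
      ← germ_res L x (inf_le_right : V' ⊓ U ≤ U) hxV e] at ha
    have ha2 := (germ_smul L x (V' ⊓ U) hxV _ _).trans ha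
    obtain ⟨W, hW, hxW, h0⟩ := exists_res_eq_zero_of_germ_eq_zero L x hxV _ ha2
    rw [smul_res, res_res] at h0
    have hb := he W (hW.trans inf_le_right)
    have h1 : X.presheaf.map (homOfLE hW).op (X.presheaf.map (homOfLE (inf_le_left :
        V' ⊓ U ≤ V')).op a') = 0 := by
      apply hb.1
      simp only [zero_smul]
      exact h0
    rw [← sgerm_res x (inf_le_left : V' ⊓ U ≤ V') hxV a', ← sgerm_res x hW hxW, h1, map_zero]
  · intro m
    obtain ⟨V', hxV', m', rfl⟩ := TopCat.Presheaf.exists_germ_eq L.presheaf m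
    have hxV : x ∈ V' ⊓ U := ⟨hxV', hx⟩
    obtain ⟨a, ha⟩ := (he (V' ⊓ U) inf_le_right).2
      (L.presheaf.map (homOfLE (inf_le_left : V' ⊓ U ≤ V')).op m')
    refine ⟨X.presheaf.germ (V' ⊓ U) x hxV a, ?_⟩
    rw [LinearMap.toSpanSingleton_apply,
      ← germ_res L x (inf_le_right : V' ⊓ U ≤ U) hxV e]
    have ha' : a • L.presheaf.map (homOfLE (inf_le_right : V' ⊓ U ≤ U)).op e =
        L.presheaf.map (homOfLE (inf_le_left : V' ⊓ U ≤ V')).op m' := ha
    refine (germ_smul L x (V' ⊓ U) hxV _ _).symm.trans ?_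
    rw [ha', germ_res]

end Groth.Agent.H5.SepPT
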