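import Mathlib

set_option autoImplicit false
universe u

namespace Groth.Agent.H5.SepPT

variable {R M : Type*} [CommRing R] [AddCommGroup M] [Module R M]

/-- for a generator `β` of `M`, `I • ⊤` is the image of `I` under `a ↦ a • β`. -/
theorem smul_top_eq_map (β : M)
    (hβ : Function.Surjective (LinearMap.toSpanSingleton R M β)) (I : Ideal R) :
    I • (⊤ : Submodule R M) = Submodule.map (LinearMap.toSpanSingleton R M β) I := by
  have h1 : (⊤ : Submodule R M) = Submodule.map (LinearMap.toSpanSingleton R M β) ⊤ := by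
    rw [Submodule.map_top]
    exact (LinearMap.range_eq_top.mpr hβ).symm
  conv_lhs => rw [h1]
  rw [← Submodule.map_smul'']
  congr 1
  rw [smul_eq_mul, Ideal.mul_top]

theorem smul_mem_smul_top_iff (β : M)
    (hβ : Function.Bijective (LinearMap.toSpanSingleton R M β)) (I : Ideal R) (a : R) :
    a • β ∈ I • (⊤ : Submodule R M) ↔ a ∈ I := by
  rw [smul_top_eq_map β hβ.2 I]
  constructor
  · rintro ⟨b, hb, hba⟩
    have : b = a := hβ.1 (by simpa [LinearMap.toSpanSingleton_apply] using hba)
    exact this ▸ hb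
  · intro ha
    exact ⟨a, ha, by simp [LinearMap.toSpanSingleton_apply]⟩

theorem smul_top_le_iff (β : M)
    (hβ : Function.Bijective (LinearMap.toSpanSingleton R M β)) (I J : Ideal R) (S : Set R) :
    I • (⊤ : Submodule R M) ≤
        Submodule.span R {v | ∃ s ∈ S, v = s • β} ⊔ J • (⊤ : Submodule R M) ↔
      I ≤ Ideal.span S ⊔ J := by
  rw [smul_top_eq_map β hβ.2 I, smul_top_eq_map β hβ.2 J]
  have h1 : {v | ∃ s ∈ S, v = s • β} = (LinearMap.toSpanSingleton R M β) '' S := by
    ext v
    constructor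
    · rintro ⟨s, hs, rfl⟩
      exact ⟨s, hs, by simp [LinearMap.toSpanSingleton_apply]⟩
    · rintro ⟨s, hs, rfl⟩
      exact ⟨s, hs, by simp [LinearMap.toSpanSingleton_apply]⟩
  rw [h1, Submodule.span_image, ← Submodule.map_sup]
  exact Submodule.map_le_map_iff_of_injective hβ.1 _ _

end Groth.Agent.H5.SepPT
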