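import Mathlib
import Groth.Agent.Lib.Lead.PN.Rep2

set_option autoImplicit false
universe u
open CategoryTheory AlgebraicGeometry TopologicalSpace Opposite HomogeneousLocalization

namespace Groth.Agent.H5.SepPT

open Groth.Agent.LD Twist

variable {R A : Type u} [CommRing R] [CommRing A] [Algebra R A] (𝒜 : ℕ → Submodule R A)
  [GradedAlgebra 𝒜]

/-- the composite `A_(f) → Γ(D₊(f)) → O_{Y,y}`. -/
noncomputable def ρ (f : A) (y : Proj 𝒜) (hy : y ∈ Proj.basicOpen 𝒜 f) :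
    Away 𝒜 f →+* (Proj 𝒜).presheaf.stalk y :=
  ((Proj 𝒜).presheaf.germ (Proj.basicOpen 𝒜 f) y hy).hom.comp (Proj.awayToSection 𝒜 f).hom

lemma ρ_apply (f : A) (y : Proj 𝒜) (hy : y ∈ Proj.basicOpen 𝒜 f) (z : Away 𝒜 f) :
    ρ 𝒜 f y hy z = (Proj 𝒜).presheaf.germ (Proj.basicOpen 𝒜 f) y hy
      ((Proj.awayToSection 𝒜 f).hom z) := rfl

/-- `G / f^d` is a non-unit at `y` iff `G ∈ y`. -/
theorem ρ_mk_mem_maximalIdeal_iff {f : A} {m : ℕ} (hf : f ∈ 𝒜 m) (y : Proj 𝒜)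
    (hy : y ∈ Proj.basicOpen 𝒜 f) (d : ℕ) (G : A) (hG : G ∈ 𝒜 (d • m)) :
    ρ 𝒜 f y hy (Away.mk 𝒜 hf d G hG) ∈ IsLocalRing.maximalIdeal ((Proj 𝒜).presheaf.stalk y) ↔
      G ∈ y.asHomogeneousIdeal := by
  let y₀ : ProjectiveSpectrum 𝒜 := y
  have hy' : f ∉ y₀.asHomogeneousIdeal := hy
  rw [IsLocalRing.mem_maximalIdeal, mem_nonunits_iff]
  let v : AtPrime 𝒜 y₀.asHomogeneousIdeal.toIdeal :=
    ((Proj.awayToSection 𝒜 f).hom (Away.mk 𝒜 hf d G hG)).1 ⟨y, hy⟩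
  have h1 : IsUnit (ρ 𝒜 f y hy (Away.mk 𝒜 hf d G hG)) ↔
      IsUnit (Proj.stalkIso' 𝒜 y₀ (ρ 𝒜 f y hy (Away.mk 𝒜 hf d G hG))) :=
    (MulEquiv.isUnit_map (Proj.stalkIso' 𝒜 y₀)).symm
  have h2 : Proj.stalkIso' 𝒜 y₀ (ρ 𝒜 f y hy (Away.mk 𝒜 hf d G hG)) = v :=
    Proj.stalkIso'_germ 𝒜 _ y₀ hy _
  have h3 : (v.val : Loc 𝒜 y₀) = Localization.mk G ⟨f ^ d, PN.pow_notMem f y₀ hy' d⟩ := by
    have := PN.awayToSection_val f (Away.mk 𝒜 hf d G hG) ⟨y₀, hy⟩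
    refine this.trans ?_
    rw [Away.val_mk]
    exact PN.toLoc_mk f y₀ hy' G d (PN.pow_notMem f y₀ hy' d)
  have h4 : IsUnit v ↔ IsUnit (v.val : Loc 𝒜 y₀) :=
    (HomogeneousLocalization.isUnit_iff_isUnit_val _ _ v).symm
  have h5 : IsUnit (Localization.mk G ⟨f ^ d, PN.pow_notMem f y₀ hy' d⟩ : Loc 𝒜 y₀) ↔
      G ∉ y₀.asHomogeneousIdeal := by
    rw [Localization.mk_eq_mk',
      IsLocalization.AtPrime.isUnit_mk'_iff (Loc 𝒜 y₀) y₀.asHomogeneousIdeal.toIdeal]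
    rfl
  have h6 : IsUnit (ρ 𝒜 f y hy (Away.mk 𝒜 hf d G hG)) ↔ G ∉ y₀.asHomogeneousIdeal :=
    h1.trans ((Iff.of_eq (congrArg IsUnit h2)).trans (h4.trans
      ((Iff.of_eq (congrArg IsUnit h3)).trans h5)))
  exact (not_congr h6).trans not_not

variable {f : A} {m : ℕ} (hf : f ∈ 𝒜 m) (hm : 0 < m)

include hf hm in
/-- the prime of `y` in the chart ring is the preimage of the prime of `y` in `Γ(D₊(f))`. -/
theorem comap_ρ_eq (y : Proj 𝒜) (hy : y ∈ Proj.basicOpen 𝒜 f) :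
    (IsLocalRing.maximalIdeal ((Proj 𝒜).presheaf.stalk y)).comap (ρ 𝒜 f y hy) =
      (((Proj.isAffineOpen_basicOpen 𝒜 f hf hm).primeIdealOf ⟨y, hy⟩).asIdeal).comap
        (Proj.awayToSection 𝒜 f).hom := by
  set hD := Proj.isAffineOpen_basicOpen 𝒜 f hf hm
  letI alg : Algebra Γ(Proj 𝒜, Proj.basicOpen 𝒜 f) ((Proj 𝒜).presheaf.stalk y) :=
    (Proj 𝒜).presheaf.algebra_section_stalk ⟨y, hy⟩
  haveI loc : IsLocalization.AtPrime ((Proj 𝒜).presheaf.stalk y)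
      (hD.primeIdealOf ⟨y, hy⟩).asIdeal := hD.isLocalization_stalk ⟨y, hy⟩
  have h1 : (IsLocalRing.maximalIdeal ((Proj 𝒜).presheaf.stalk y)).comap
      (algebraMap Γ(Proj 𝒜, Proj.basicOpen 𝒜 f) ((Proj 𝒜).presheaf.stalk y)) =
      (hD.primeIdealOf ⟨y, hy⟩).asIdeal :=
    IsLocalization.AtPrime.under_maximalIdeal _ _
  rw [← h1, Ideal.comap_comap]
  rfl

include hf hm in
theorem isMaximal_comap_ρ (y : Proj 𝒜) (hy : y ∈ Proj.basicOpen 𝒜 f)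
    (hcl : IsClosed ({y} : Set (Proj 𝒜))) :
    ((IsLocalRing.maximalIdeal ((Proj 𝒜).presheaf.stalk y)).comap (ρ 𝒜 f y hy)).IsMaximal := by
  rw [comap_ρ_eq 𝒜 hf hm y hy]
  haveI := (Proj.isAffineOpen_basicOpen 𝒜 f hf hm).primeIdealOf_isMaximal_of_isClosed ⟨y, hy⟩ hcl
  exact Ideal.comap_isMaximal_of_surjective _ (PN.awayToSection_bijective hf hm).2

include hf hm in
/-- the maximal ideal of the stalk is generated by the prime of `y` in the chart ring. -/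
theorem map_comap_ρ (y : Proj 𝒜) (hy : y ∈ Proj.basicOpen 𝒜 f) :
    ((IsLocalRing.maximalIdeal ((Proj 𝒜).presheaf.stalk y)).comap (ρ 𝒜 f y hy)).map (ρ 𝒜 f y hy) =
      IsLocalRing.maximalIdeal ((Proj 𝒜).presheaf.stalk y) := by
  rw [comap_ρ_eq 𝒜 hf hm y hy]
  set hD := Proj.isAffineOpen_basicOpen 𝒜 f hf hm
  letI alg : Algebra Γ(Proj 𝒜, Proj.basicOpen 𝒜 f) ((Proj 𝒜).presheaf.stalk y) :=
    (Proj 𝒜).presheaf.algebra_section_stalk ⟨y, hy⟩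
  haveI loc : IsLocalization.AtPrime ((Proj 𝒜).presheaf.stalk y)
      (hD.primeIdealOf ⟨y, hy⟩).asIdeal := hD.isLocalization_stalk ⟨y, hy⟩
  have h1 : Ideal.map (algebraMap Γ(Proj 𝒜, Proj.basicOpen 𝒜 f) ((Proj 𝒜).presheaf.stalk y))
      (hD.primeIdealOf ⟨y, hy⟩).asIdeal = IsLocalRing.maximalIdeal _ :=
    IsLocalization.AtPrime.map_eq_maximalIdeal _ _
  have h2 : ρ 𝒜 f y hy = (algebraMap Γ(Proj 𝒜, Proj.basicOpen 𝒜 f)
      ((Proj 𝒜).presheaf.stalk y)).comp (Proj.awayToSection 𝒜 f).hom := rfl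
  rw [h2, ← Ideal.map_map, Ideal.map_comap_of_surjective _ (PN.awayToSection_bijective hf hm).2, h1]

include hf hm in
/-- points of `D₊(f)` with the same prime in the chart ring are equal. -/
theorem eq_of_comap_ρ_eq (y y' : Proj 𝒜) (hy : y ∈ Proj.basicOpen 𝒜 f)
    (hy' : y' ∈ Proj.basicOpen 𝒜 f)
    (h : (IsLocalRing.maximalIdeal ((Proj 𝒜).presheaf.stalk y)).comap (ρ 𝒜 f y hy) =
      (IsLocalRing.maximalIdeal ((Proj 𝒜).presheaf.stalk y')).comap (ρ 𝒜 f y' hy')) : y = y' := by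
  rw [comap_ρ_eq 𝒜 hf hm y hy, comap_ρ_eq 𝒜 hf hm y' hy'] at h
  set hD := Proj.isAffineOpen_basicOpen 𝒜 f hf hm
  have hs := (PN.awayToSection_bijective (𝒜 := 𝒜) hf hm).2
  have h2 : (hD.primeIdealOf ⟨y, hy⟩).asIdeal = (hD.primeIdealOf ⟨y', hy'⟩).asIdeal := by
    rw [← Ideal.map_comap_of_surjective _ hs (hD.primeIdealOf ⟨y, hy⟩).asIdeal, h,
      Ideal.map_comap_of_surjective _ hs]
  have h3 : hD.primeIdealOf ⟨y, hy⟩ = hD.primeIdealOf ⟨y', hy'⟩ := PrimeSpectrum.ext h2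
  have h4 := hD.fromSpec_primeIdealOf ⟨y, hy⟩
  have h5 := hD.fromSpec_primeIdealOf ⟨y', hy'⟩
  rw [h3] at h4
  exact h4.symm.trans h5

end Groth.Agent.H5.SepPT
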