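import Mathlib
import Groth.Agent.Lib.Helper2.ProjUPE

set_option autoImplicit false
universe u
open HomogeneousLocalization

namespace Groth.Agent.H5.SepPT

open Groth.Agent.H2.PUP

variable (n : ℕ) (k : Type u) [Field k]

lemma hX (i : Fin (n + 1)) :
    (MvPolynomial.X i : MvPolynomial (Fin (n + 1)) k) ∈ CohB1.polyGrading n k 1 :=
  MvPolynomial.isHomogeneous_X k i

/-- the chart ring `k[T_0/T_i, …, T_n/T_i]`. -/
abbrev Aw (i : Fin (n + 1)) : Type u :=
  Away (CohB1.polyGrading n k) (MvPolynomial.X i : MvPolynomial (Fin (n + 1)) k)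

/-- scalars in the chart ring. -/
noncomputable def sc (i : Fin (n + 1)) : k →+* Aw n k i :=
  (algebraMap (CohB1.polyGrading n k 0) (Aw n k i)).comp (algebraMap k (CohB1.polyGrading n k 0))

/-- the fraction `(∑ c_j T_j) / T_i`. -/
noncomputable def lf (i : Fin (n + 1)) (c : Fin (n + 1) → k) : Aw n k i :=
  frac1 (CohB1.polyGrading n k) (ιPn n k) (ιPn_mem n k) (hX n k i) c

lemma lf_add (i : Fin (n + 1)) (c c' : Fin (n + 1) → k) :
    lf n k i (c + c') = lf n k i c + lf n k i c' :=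
  frac1_add (CohB1.polyGrading n k) (ιPn n k) (ιPn_mem n k) (hX n k i) c c'

lemma lf_smul (i : Fin (n + 1)) (a : k) (c : Fin (n + 1) → k) :
    lf n k i (a • c) = sc n k i a * lf n k i c :=
  frac1_smul (CohB1.polyGrading n k) (ιPn n k) (ιPn_mem n k) (hX n k i) a c

lemma lf_single_self (i : Fin (n + 1)) : lf n k i (Pi.single i 1) = 1 := by
  apply HomogeneousLocalization.val_injective
  rw [lf, frac1, Away.val_mk, HomogeneousLocalization.val_one, ιPn_single]
  simp only [pow_one]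
  exact Localization.mk_self ⟨_, _⟩

lemma lf_sub_smul (i j : Fin (n + 1)) (a : k) :
    lf n k i (Pi.single j 1 - a • Pi.single i 1) = lf n k i (Pi.single j 1) - sc n k i a := by
  rw [sub_eq_add_neg, ← neg_smul, lf_add, lf_smul, lf_single_self, mul_one, map_neg,
    ← sub_eq_add_neg]

lemma algebraMap_zero_surjective :
    Function.Surjective (algebraMap k (CohB1.polyGrading n k 0)) := by
  intro p
  have hp : (p : MvPolynomial (Fin (n+1)) k).IsHomogeneous 0 :=
    (MvPolynomial.mem_homogeneousSubmodule _ _).1 p.2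
  have h1 : (p : MvPolynomial (Fin (n+1)) k).totalDegree = 0 :=
    Nat.le_zero.1 hp.totalDegree_le
  refine ⟨MvPolynomial.coeff 0 p.1, Subtype.ext ?_⟩
  exact (MvPolynomial.totalDegree_eq_zero_iff_eq_C.1 h1).symm

/-- the chart ring is of finite type over `k`. -/
lemma finiteType_sc (i : Fin (n + 1)) : (sc n k i).FiniteType := by
  haveI : IsScalarTower k (CohB1.polyGrading n k 0) (MvPolynomial (Fin (n+1)) k) :=
    ⟨fun r p q => by
      change ((r • p : CohB1.polyGrading n k 0) : MvPolynomial (Fin (n+1)) k) * q =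
        r • ((p : MvPolynomial (Fin (n+1)) k) * q)
      rw [Submodule.coe_smul, smul_mul_assoc]⟩
  haveI : Algebra.FiniteType (CohB1.polyGrading n k 0) (MvPolynomial (Fin (n+1)) k) :=
    Algebra.FiniteType.of_restrictScalars_finiteType k _ _
  have h1 : (algebraMap (CohB1.polyGrading n k 0) (Aw n k i)).FiniteType :=
    Away.finiteType (𝒜 := CohB1.polyGrading n k) _ 1 (hX n k i)
  exact RingHom.FiniteType.comp h1
    (RingHom.FiniteType.of_surjective _ (algebraMap_zero_surjective n k))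

variable [IsAlgClosed k]

/-- a maximal ideal of the chart ring is the kernel of a `k`-point. -/
theorem exists_ev (i : Fin (n + 1)) (𝔫 : Ideal (Aw n k i)) [h𝔫 : 𝔫.IsMaximal] :
    ∃ ev : Aw n k i →+* k, (∀ e, ev (sc n k i e) = e) ∧ RingHom.ker ev = 𝔫 := by
  letI : Algebra k (Aw n k i) := (sc n k i).toAlgebra
  haveI : Algebra.FiniteType k (Aw n k i) := finiteType_sc n k i
  letI : Field (Aw n k i ⧸ 𝔫) := Ideal.Quotient.field 𝔫
  haveI : Algebra.FiniteType k (Aw n k i ⧸ 𝔫) :=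
    Algebra.FiniteType.of_surjective (Ideal.Quotient.mkₐ k 𝔫) (Ideal.Quotient.mkₐ_surjective k 𝔫)
  haveI : Module.Finite k (Aw n k i ⧸ 𝔫) := finite_of_finite_type_of_isJacobsonRing k _
  have hbij := IsAlgClosed.algebraMap_bijective_of_isIntegral (k := k) (K := Aw n k i ⧸ 𝔫)
  let ε : k ≃+* (Aw n k i ⧸ 𝔫) := RingEquiv.ofBijective (algebraMap k (Aw n k i ⧸ 𝔫)) hbij
  refine ⟨(ε.symm : (Aw n k i ⧸ 𝔫) →+* k).comp (Ideal.Quotient.mk 𝔫), ?_, ?_⟩
  · intro e
    rw [RingHom.comp_apply, RingEquiv.coe_toRingHom, RingEquiv.symm_apply_eq]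
    rfl
  · ext g
    rw [RingHom.mem_ker, RingHom.comp_apply, RingEquiv.coe_toRingHom,
      map_eq_zero_iff _ ε.symm.injective, Ideal.Quotient.eq_zero_iff_mem]

omit [IsAlgClosed k] in
/-- every element of the chart ring is a scalar modulo the `T_j/T_i - a_j`. -/
theorem sub_mem_span (i : Fin (n + 1)) (ev : Aw n k i →+* k) (hev : ∀ e, ev (sc n k i e) = e)
    (g : Aw n k i) :
    g - sc n k i (ev g) ∈ Ideal.span (Set.range fun j : Fin (n + 1) =>
      lf n k i (Pi.single j 1) - sc n k i (ev (lf n k i (Pi.single j 1)))) := by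
  set I := Ideal.span (Set.range fun j : Fin (n + 1) =>
      lf n k i (Pi.single j 1) - sc n k i (ev (lf n k i (Pi.single j 1)))) with hI
  have h := away_ringHom_ext' (CohB1.polyGrading n k) (ιPn n k) (ιPn_mem n k)
    (isSymmetricAlgebra_ιPn n k) (fun j : Fin (n + 1) => (Pi.single j 1 : Fin (n + 1) → k))
    (span_single n k) (hX n k i) (Ideal.Quotient.mk I)
    ((Ideal.Quotient.mk I).comp ((sc n k i).comp ev)) ?_ ?_
  · have h2 := congrArg (fun ρ : Aw n k i →+* Aw n k i ⧸ I => ρ g) h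
    exact Ideal.Quotient.eq.mp h2
  · intro a
    change _ = Ideal.Quotient.mk I (sc n k i (ev (sc n k i a)))
    rw [hev]
    rfl
  · intro j
    change _ = Ideal.Quotient.mk I (sc n k i (ev (lf n k i (Pi.single j 1))))
    exact Ideal.Quotient.eq.mpr (Ideal.subset_span ⟨j, rfl⟩)

/-- **maximal ideals of the chart ring are generated by the linear fractions they contain.** -/
theorem le_span_lf (i : Fin (n + 1)) (𝔫 : Ideal (Aw n k i)) [h𝔫 : 𝔫.IsMaximal] :
    𝔫 ≤ Ideal.span {g | ∃ c : Fin (n + 1) → k, g = lf n k i c ∧ g ∈ 𝔫} := by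
  obtain ⟨ev, hev, hker⟩ := exists_ev n k i 𝔫
  intro g hg
  have hg0 : ev g = 0 := by rw [← RingHom.mem_ker, hker]; exact hg
  have h1 := sub_mem_span n k i ev hev g
  rw [hg0, map_zero, sub_zero] at h1
  refine Ideal.span_mono ?_ h1
  rintro _ ⟨j, rfl⟩
  refine ⟨Pi.single j 1 - ev (lf n k i (Pi.single j 1)) • Pi.single i 1, ?_, ?_⟩
  · exact (lf_sub_smul n k i j _).symm
  · rw [← hker, RingHom.mem_ker, map_sub, hev, sub_self]

/-- distinct maximal ideals are separated by a linear fraction. -/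
theorem exists_lf_mem_notMem (i : Fin (n + 1)) (𝔫 𝔫' : Ideal (Aw n k i)) [h𝔫 : 𝔫.IsMaximal]
    [h𝔫' : 𝔫'.IsMaximal] (hne : 𝔫 ≠ 𝔫') :
    ∃ c : Fin (n + 1) → k, lf n k i c ∈ 𝔫 ∧ lf n k i c ∉ 𝔫' := by
  by_contra hcon
  have hcon : ∀ c : Fin (n + 1) → k, lf n k i c ∈ 𝔫 → lf n k i c ∈ 𝔫' := by
    intro c hc
    by_contra hc'
    exact hcon ⟨c, hc, hc'⟩
  apply hne
  apply h𝔫.eq_of_le h𝔫'.ne_top
  refine (le_span_lf n k i 𝔫).trans ?_
  rw [Ideal.span_le]
  rintro _ ⟨c, rfl, hc⟩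
  exact hcon c hc

end Groth.Agent.H5.SepPT
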