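import Mathlib
import Groth.Agent.Lib.Helper2.ProjUPE
import Groth.Agent.Lib.Lead.PN.ToSpec
import Groth.Agent.Lib.Helper5.SepPT.B

set_option autoImplicit false
universe u
open CategoryTheory AlgebraicGeometry TopologicalSpace Opposite HomogeneousLocalization

namespace Groth.Agent.H5.SepPT

open Groth.Agent.LD Twist Groth.Agent.H2.PUP

variable (n : ℕ) (k : Type u) [Field k] {X : Scheme.{u}}
  (pX : X ⟶ Spec (CommRingCat.of k)) (r : X ⟶ Proj (CohB1.polyGrading n k))

/-- `chartHom` on scalars is restriction of `toGlobal`. -/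
theorem chartHom_sc (hr : r ≫ projStr (CohB1.polyGrading n k) = pX) (i : Fin (n + 1))
    {U : X.Opens} (e : U ≤ r ⁻¹ᵁ Proj.basicOpen (CohB1.polyGrading n k) (MvPolynomial.X i))
    (a : k) :
    chartHom (CohB1.polyGrading n k) r (MvPolynomial.X i) e (sc n k i a) =
      X.presheaf.map (homOfLE (le_top : U ≤ ⊤)).op (ProjUP.toGlobal pX a) := by
  set 𝒜 := CohB1.polyGrading n k with h𝒜
  rw [chartHom_apply]
  have h1 := ConcreteCategory.congr_hom
    (PN.toSpecZero_appTop_res 𝒜 (hX n k i) Nat.one_pos) (algebraMap k (𝒜 0) a)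
  have h2 : (Proj.awayToSection 𝒜 (MvPolynomial.X i)).hom (sc n k i a) =
      (Proj 𝒜).presheaf.map (homOfLE (le_top : Proj.basicOpen 𝒜 (MvPolynomial.X i) ≤ ⊤)).op
        ((Proj.toSpecZero 𝒜).appTop.hom
          ((Scheme.ΓSpecIso (.of (𝒜 0))).inv.hom (algebraMap k (𝒜 0) a))) := h1.symm
  rw [h2]
  have h3 : (Proj 𝒜).presheaf.map
      (homOfLE (le_top : Proj.basicOpen 𝒜 (MvPolynomial.X i) ≤ ⊤)).op ≫
      r.appLE (Proj.basicOpen 𝒜 (MvPolynomial.X i)) U e =
      r.appTop ≫ X.presheaf.map (homOfLE (le_top : U ≤ ⊤)).op := by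
    rw [Scheme.Hom.map_appLE]
    rfl
  have h4 := ConcreteCategory.congr_hom h3 ((Proj.toSpecZero 𝒜).appTop.hom
          ((Scheme.ΓSpecIso (.of (𝒜 0))).inv.hom (algebraMap k (𝒜 0) a)))
  refine h4.trans ?_
  have h5 := ConcreteCategory.congr_hom
    (Scheme.ΓSpecIso_inv_naturality (CommRingCat.ofHom (algebraMap k (𝒜 0)))) a
  have h6 : ProjUP.toGlobal pX a = pX.appTop.hom ((Scheme.ΓSpecIso (CommRingCat.of k)).inv.hom a) :=
    rfl
  have h7 : ProjUP.toGlobal pX a = r.appTop.hom ((Proj.toSpecZero 𝒜).appTop.hom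
      ((Scheme.ΓSpecIso (.of (𝒜 0))).inv.hom (algebraMap k (𝒜 0) a))) := by
    rw [h6, ← hr, Scheme.Hom.comp_appTop, Scheme.Hom.comp_appTop]
    change r.appTop.hom ((Proj.toSpecZero 𝒜).appTop.hom
      ((Spec.map (CommRingCat.ofHom (algebraMap k (𝒜 0)))).appTop.hom
        ((Scheme.ΓSpecIso (CommRingCat.of k)).inv.hom a))) = _
    congr 2
    exact h5.symm
  rw [h7]
  rfl

/-- the section `∑ c_j • r^* T_j`. -/
noncomputable def secC (c : Fin (n + 1) → k) :
    Γ((Scheme.Modules.pullback r).obj (twist (CohB1.polyGrading n k) 1), ⊤) :=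
  ∑ j, ProjUP.toGlobal pX (c j) •
    ProjUP.pullSec r (twist (CohB1.polyGrading n k) 1) (sec1 (CohB1.polyGrading n k) (hX n k j))

lemma lf_single (i j : Fin (n + 1)) :
    lf n k i (Pi.single j 1) = Away.mk (CohB1.polyGrading n k) (hX n k i) 1 (MvPolynomial.X j)
      (by simpa using hX n k j) := by
  apply HomogeneousLocalization.val_injective
  rw [lf, frac1, Away.val_mk, Away.val_mk, ιPn_single]

lemma lf_zero (i : Fin (n + 1)) : lf n k i 0 = 0 :=
  frac1_zero (CohB1.polyGrading n k) (ιPn n k) (ιPn_mem n k) (hX n k i)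

lemma lf_sum (i : Fin (n + 1)) {J : Type*} (s : Finset J) (c : J → Fin (n + 1) → k) :
    lf n k i (∑ j ∈ s, c j) = ∑ j ∈ s, lf n k i (c j) := by
  classical
  induction s using Finset.induction_on with
  | empty => simp [lf_zero]
  | insert a s ha ih => rw [Finset.sum_insert ha, Finset.sum_insert ha, lf_add, ih]

lemma lf_eq_sum (i : Fin (n + 1)) (c : Fin (n + 1) → k) :
    lf n k i c = ∑ j, sc n k i (c j) * lf n k i (Pi.single j 1) := by
  have h1 : c = ∑ j, c j • (Pi.single j 1 : Fin (n + 1) → k) := by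
    conv_lhs => rw [← Finset.univ_sum_single c]
    refine Finset.sum_congr rfl fun j _ => ?_
    rw [← Pi.single_smul, smul_eq_mul, mul_one]
  conv_lhs => rw [h1]
  rw [lf_sum]
  refine Finset.sum_congr rfl fun j _ => ?_
  rw [lf_smul]

/-- over `U ≤ r⁻¹ D₊(T_i)`, `∑ c_j • r^* T_j = r^♯(ℓ_c / T_i) • r^* T_i`. -/
theorem res_secC (hr : r ≫ projStr (CohB1.polyGrading n k) = pX) (i : Fin (n + 1))
    {U : X.Opens} (e : U ≤ r ⁻¹ᵁ Proj.basicOpen (CohB1.polyGrading n k) (MvPolynomial.X i))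
    (c : Fin (n + 1) → k) :
    ((Scheme.Modules.pullback r).obj (twist (CohB1.polyGrading n k) 1)).presheaf.map
        (homOfLE (le_top : U ≤ ⊤)).op (secC n k pX r c) =
      chartHom (CohB1.polyGrading n k) r (MvPolynomial.X i) e (lf n k i c) •
        ((Scheme.Modules.pullback r).obj (twist (CohB1.polyGrading n k) 1)).presheaf.map
          (homOfLE (le_top : U ≤ ⊤)).op
          (ProjUP.pullSec r (twist (CohB1.polyGrading n k) 1)
            (sec1 (CohB1.polyGrading n k) (hX n k i))) := by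
  set 𝒜 := CohB1.polyGrading n k with h𝒜
  rw [secC, map_sum, lf_eq_sum, map_sum, Finset.sum_smul]
  refine Finset.sum_congr rfl fun j _ => ?_
  rw [QC.smul_res, res_pullSec_sec1_eq_smul 𝒜 r (hX n k i) (hX n k j) e, map_mul,
    chartHom_sc n k pX r hr i e, lf_single, mul_smul]

end Groth.Agent.H5.SepPT
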