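import Mathlib
import Groth.Agent.Lib.Helper5.SepPT.A
import Groth.Agent.Lib.Helper5.SepPT.C
import Groth.Agent.Lib.Helper5.SepPT.D
import Groth.Agent.Lib.Helper5.SepPT.E0

set_option autoImplicit false
universe u
open CategoryTheory AlgebraicGeometry TopologicalSpace Opposite HomogeneousLocalization

namespace Groth.Agent.H5.SepPT

open Groth.Agent.LD Twist Groth.Agent.H2.PUP

variable (n : ℕ) (k : Type u) [Field k] {X : Scheme.{u}}
  (pX : X ⟶ Spec (CommRingCat.of k)) (r : X ⟶ Proj (CohB1.polyGrading n k))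

/-- every point of projective space lies in a standard chart. -/
lemma exists_mem_chart (y : Proj (CohB1.polyGrading n k)) :
    ∃ i : Fin (n + 1), y ∈ Proj.basicOpen (CohB1.polyGrading n k) (MvPolynomial.X i) := by
  have h := iSup_basicOpen_eq_top' (CohB1.polyGrading n k) (ιPn n k) (ιPn_mem n k)
    (isSymmetricAlgebra_ιPn n k) (fun j : Fin (n + 1) => (Pi.single j 1 : Fin (n + 1) → k))
    (span_single n k)
  have hy : y ∈ (⨆ j : Fin (n + 1),
      Proj.basicOpen (CohB1.polyGrading n k) (ιPn n k (Pi.single j 1))) := by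
    rw [h]; trivial
  obtain ⟨i, hi⟩ := Opens.mem_iSup.mp hy
  exact ⟨i, by rwa [ιPn_single] at hi⟩

/-- the local function `r^♯(ℓ_c / T_i)` on `r⁻¹ D₊(T_i)`. -/
noncomputable def phi (i : Fin (n + 1)) (c : Fin (n + 1) → k) :
    Γ(X, r ⁻¹ᵁ Proj.basicOpen (CohB1.polyGrading n k) (MvPolynomial.X i)) :=
  chartHom (CohB1.polyGrading n k) r (MvPolynomial.X i) le_rfl (lf n k i c)

/-- the local basis `r^* T_i` on `r⁻¹ D₊(T_i)`. -/
noncomputable def bas (i : Fin (n + 1)) :
    Γ((Scheme.Modules.pullback r).obj (twist (CohB1.polyGrading n k) 1),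
      r ⁻¹ᵁ Proj.basicOpen (CohB1.polyGrading n k) (MvPolynomial.X i)) :=
  ((Scheme.Modules.pullback r).obj (twist (CohB1.polyGrading n k) 1)).presheaf.map
    (homOfLE (le_top : r ⁻¹ᵁ Proj.basicOpen (CohB1.polyGrading n k) (MvPolynomial.X i) ≤ ⊤)).op
    (ProjUP.pullSec r (twist (CohB1.polyGrading n k) 1)
      (sec1 (CohB1.polyGrading n k) (hX n k i)))

lemma isBasisOver_bas (i : Fin (n + 1)) :
    QC.IsBasisOver ((Scheme.Modules.pullback r).obj (twist (CohB1.polyGrading n k) 1))
      (r ⁻¹ᵁ Proj.basicOpen (CohB1.polyGrading n k) (MvPolynomial.X i)) (bas n k r i) :=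
  isBasisOver_res_pullSec_sec1 (CohB1.polyGrading n k) (ιPn n k) (ιPn_mem n k)
    (isSymmetricAlgebra_ιPn n k) r (hX n k i) le_rfl

/-- the germ of the basis at a point of the chart. -/
noncomputable def bet (i : Fin (n + 1)) (P : X)
    (hP : r P ∈ Proj.basicOpen (CohB1.polyGrading n k) (MvPolynomial.X i)) :
    ((Scheme.Modules.pullback r).obj (twist (CohB1.polyGrading n k) 1)).presheaf.stalk P :=
  ((Scheme.Modules.pullback r).obj (twist (CohB1.polyGrading n k) 1)).presheaf.germ
    (r ⁻¹ᵁ Proj.basicOpen (CohB1.polyGrading n k) (MvPolynomial.X i)) P hP (bas n k r i)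

lemma bijective_bet (i : Fin (n + 1)) (P : X)
    (hP : r P ∈ Proj.basicOpen (CohB1.polyGrading n k) (MvPolynomial.X i)) :
    Function.Bijective (LinearMap.toSpanSingleton (X.presheaf.stalk P)
      (((Scheme.Modules.pullback r).obj (twist (CohB1.polyGrading n k) 1)).presheaf.stalk P)
      (bet n k r i P hP)) :=
  bijective_toSpanSingleton_germ _ _ _ (isBasisOver_bas n k r i) P hP

/-- the germ of `r^♯(ℓ_c / T_i)`. -/
noncomputable def gphi (i : Fin (n + 1)) (P : X)
    (hP : r P ∈ Proj.basicOpen (CohB1.polyGrading n k) (MvPolynomial.X i))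
    (c : Fin (n + 1) → k) : X.presheaf.stalk P :=
  X.presheaf.germ (r ⁻¹ᵁ Proj.basicOpen (CohB1.polyGrading n k) (MvPolynomial.X i)) P hP
    (phi n k r i c)

theorem germ_secC (hr : r ≫ projStr (CohB1.polyGrading n k) = pX) (i : Fin (n + 1)) (P : X)
    (hP : r P ∈ Proj.basicOpen (CohB1.polyGrading n k) (MvPolynomial.X i))
    (c : Fin (n + 1) → k) :
    ((Scheme.Modules.pullback r).obj (twist (CohB1.polyGrading n k) 1)).presheaf.germ ⊤ P trivial
        (secC n k pX r c) = gphi n k r i P hP c • bet n k r i P hP := by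
  have h1 := QC.germ_res ((Scheme.Modules.pullback r).obj (twist (CohB1.polyGrading n k) 1)) P
    (le_top : r ⁻¹ᵁ Proj.basicOpen (CohB1.polyGrading n k) (MvPolynomial.X i) ≤ ⊤) hP
    (secC n k pX r c)
  refine h1.symm.trans ?_
  rw [res_secC n k pX r hr i le_rfl c]
  exact QC.germ_smul _ P _ hP _ _

theorem gphi_eq (i : Fin (n + 1)) (P : X)
    (hP : r P ∈ Proj.basicOpen (CohB1.polyGrading n k) (MvPolynomial.X i))
    (c : Fin (n + 1) → k) :
    gphi n k r i P hP c =
      r.stalkMap P (ρ (CohB1.polyGrading n k) (MvPolynomial.X i) (r P) hP (lf n k i c)) := by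
  rw [ρ_apply, Scheme.Hom.germ_stalkMap_apply, gphi, phi, chartHom_apply, Scheme.Hom.appLE_eq_app]

theorem gphi_mem_iff (i : Fin (n + 1)) (P : X)
    (hP : r P ∈ Proj.basicOpen (CohB1.polyGrading n k) (MvPolynomial.X i))
    (c : Fin (n + 1) → k) :
    gphi n k r i P hP c ∈ IsLocalRing.maximalIdeal (X.presheaf.stalk P) ↔
      ιPn n k c ∈ (r P).asHomogeneousIdeal := by
  rw [gphi_eq, ← ρ_mk_mem_maximalIdeal_iff (CohB1.polyGrading n k) (hX n k i) (r P) hP 1
    (ιPn n k c) (by simpa using ιPn_mem n k c)]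
  rw [IsLocalRing.mem_maximalIdeal, IsLocalRing.mem_maximalIdeal, mem_nonunits_iff,
    mem_nonunits_iff]
  exact not_congr (isUnit_map_iff (r.stalkMap P).hom _)

/-- **key lemma**: `s_c` vanishes at `P` iff the linear form `ℓ_c` lies in the prime `r P`. -/
theorem germ_secC_mem_iff (hr : r ≫ projStr (CohB1.polyGrading n k) = pX) (P : X)
    (c : Fin (n + 1) → k) :
    ((Scheme.Modules.pullback r).obj (twist (CohB1.polyGrading n k) 1)).presheaf.germ ⊤ P trivial
        (secC n k pX r c) ∈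
      IsLocalRing.maximalIdeal (X.presheaf.stalk P) •
        (⊤ : Submodule (X.presheaf.stalk P)
          (((Scheme.Modules.pullback r).obj (twist (CohB1.polyGrading n k) 1)).presheaf.stalk P)) ↔
      ιPn n k c ∈ (r P).asHomogeneousIdeal := by
  obtain ⟨i, hP⟩ := exists_mem_chart n k (r P)
  rw [germ_secC n k pX r hr i P hP c,
    smul_mem_smul_top_iff _ (bijective_bet n k r i P hP), gphi_mem_iff]

end Groth.Agent.H5.SepPT
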