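import Mathlib
import Groth.Agent.Lib.Helper5.SepPT.E
import Groth.Agent.Lib.Helper5.CIcrit.E

set_option autoImplicit false
universe u
open CategoryTheory AlgebraicGeometry TopologicalSpace Opposite HomogeneousLocalization

namespace Groth.Agent.H5.SepPT

open Groth.Agent.LD Twist Groth.Agent.H2.PUP

variable (n : ℕ) (k : Type u) [Field k] {X : Scheme.{u}}
  (pX : X ⟶ Spec (CommRingCat.of k)) (r : X ⟶ Proj (CohB1.polyGrading n k))

lemma ιPn_mem' (c : Fin (n + 1) → k) : ιPn n k c ∈ CohB1.polyGrading n k (1 • 1) := by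
  simpa using ιPn_mem n k c

section Yside
variable [IsAlgClosed k]

/-- distinct closed points of projective space are separated by a linear form. -/
theorem exists_linear_sep (y y' : Proj (CohB1.polyGrading n k))
    (hy : IsClosed ({y} : Set (Proj (CohB1.polyGrading n k))))
    (hy' : IsClosed ({y'} : Set (Proj (CohB1.polyGrading n k)))) (hne : y ≠ y') :
    ∃ c : Fin (n + 1) → k, ιPn n k c ∈ y.asHomogeneousIdeal ∧
      ιPn n k c ∉ y'.asHomogeneousIdeal := by
  set 𝒜 := CohB1.polyGrading n k with h𝒜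
  obtain ⟨i, hi'⟩ := exists_mem_chart n k y'
  by_cases hi : y ∈ Proj.basicOpen 𝒜 (MvPolynomial.X i)
  · haveI h1 := isMaximal_comap_ρ 𝒜 (hX n k i) Nat.one_pos y hi hy
    haveI h2 := isMaximal_comap_ρ 𝒜 (hX n k i) Nat.one_pos y' hi' hy'
    have h3 : (IsLocalRing.maximalIdeal ((Proj 𝒜).presheaf.stalk y)).comap
        (ρ 𝒜 (MvPolynomial.X i) y hi) ≠
        (IsLocalRing.maximalIdeal ((Proj 𝒜).presheaf.stalk y')).comap
        (ρ 𝒜 (MvPolynomial.X i) y' hi') :=
      fun h => hne (eq_of_comap_ρ_eq 𝒜 (hX n k i) Nat.one_pos y y' hi hi' h)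
    obtain ⟨c, hc, hc'⟩ := exists_lf_mem_notMem n k i _ _ h3
    refine ⟨c, ?_, ?_⟩
    · have := (ρ_mk_mem_maximalIdeal_iff 𝒜 (hX n k i) y hi 1 (ιPn n k c)
        (ιPn_mem' n k c)).mp hc
      exact this
    · intro h
      exact hc' ((ρ_mk_mem_maximalIdeal_iff 𝒜 (hX n k i) y' hi' 1 (ιPn n k c)
        (ιPn_mem' n k c)).mpr h)
  · refine ⟨Pi.single i 1, ?_, ?_⟩
    · rw [ιPn_single]
      exact not_not.mp hi
    · rw [ιPn_single]
      exact hi'

/-- the maximal ideal at a closed point of a chart is generated by linear fractions. -/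
theorem maximalIdeal_le_span (i : Fin (n + 1)) (y : Proj (CohB1.polyGrading n k))
    (hi : y ∈ Proj.basicOpen (CohB1.polyGrading n k) (MvPolynomial.X i))
    (hy : IsClosed ({y} : Set (Proj (CohB1.polyGrading n k)))) :
    IsLocalRing.maximalIdeal ((Proj (CohB1.polyGrading n k)).presheaf.stalk y) ≤
      Ideal.span {w | ∃ c : Fin (n + 1) → k,
        w = ρ (CohB1.polyGrading n k) (MvPolynomial.X i) y hi (lf n k i c) ∧
        ιPn n k c ∈ y.asHomogeneousIdeal} := by
  set 𝒜 := CohB1.polyGrading n k with h𝒜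
  haveI h1 := isMaximal_comap_ρ 𝒜 (hX n k i) Nat.one_pos y hi hy
  have h2 := le_span_lf n k i ((IsLocalRing.maximalIdeal ((Proj 𝒜).presheaf.stalk y)).comap
    (ρ 𝒜 (MvPolynomial.X i) y hi))
  have h3 := Ideal.map_mono (f := ρ 𝒜 (MvPolynomial.X i) y hi) h2
  rw [map_comap_ρ 𝒜 (hX n k i) Nat.one_pos y hi, Ideal.map_span] at h3
  refine h3.trans (Ideal.span_mono ?_)
  rintro _ ⟨g, ⟨c, rfl, hc⟩, rfl⟩
  refine ⟨c, rfl, ?_⟩
  exact (ρ_mk_mem_maximalIdeal_iff 𝒜 (hX n k i) y hi 1 (ιPn n k c)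
    (ιPn_mem' n k c)).mp hc

end Yside

/-- the tangent condition translated to the local ring. -/
theorem tangent_iff (hr : r ≫ projStr (CohB1.polyGrading n k) = pX) (i : Fin (n + 1)) (P : X)
    (hP : r P ∈ Proj.basicOpen (CohB1.polyGrading n k) (MvPolynomial.X i)) :
    (IsLocalRing.maximalIdeal (X.presheaf.stalk P) •
        (⊤ : Submodule (X.presheaf.stalk P)
          (((Scheme.Modules.pullback r).obj (twist (CohB1.polyGrading n k) 1)).presheaf.stalk P)) ≤
      Submodule.span (X.presheaf.stalk P)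
        {v | ∃ c : Fin (n + 1) → k,
          v = ((Scheme.Modules.pullback r).obj (twist (CohB1.polyGrading n k) 1)).presheaf.germ
            ⊤ P trivial (secC n k pX r c) ∧
          v ∈ IsLocalRing.maximalIdeal (X.presheaf.stalk P) •
            (⊤ : Submodule (X.presheaf.stalk P)
              (((Scheme.Modules.pullback r).obj
                (twist (CohB1.polyGrading n k) 1)).presheaf.stalk P))} ⊔
        IsLocalRing.maximalIdeal (X.presheaf.stalk P) ^ 2 •
          (⊤ : Submodule (X.presheaf.stalk P)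
            (((Scheme.Modules.pullback r).obj
              (twist (CohB1.polyGrading n k) 1)).presheaf.stalk P))) ↔
      IsLocalRing.maximalIdeal (X.presheaf.stalk P) ≤
        Ideal.span {a | ∃ c : Fin (n + 1) → k, a = gphi n k r i P hP c ∧
          a ∈ IsLocalRing.maximalIdeal (X.presheaf.stalk P)} ⊔
        IsLocalRing.maximalIdeal (X.presheaf.stalk P) ^ 2 := by
  have hβ := bijective_bet n k r i P hP
  rw [← smul_top_le_iff (bet n k r i P hP) hβ]
  have hset : {v | ∃ c : Fin (n + 1) → k,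
      v = ((Scheme.Modules.pullback r).obj (twist (CohB1.polyGrading n k) 1)).presheaf.germ
        ⊤ P trivial (secC n k pX r c) ∧
      v ∈ IsLocalRing.maximalIdeal (X.presheaf.stalk P) •
        (⊤ : Submodule (X.presheaf.stalk P)
          (((Scheme.Modules.pullback r).obj
            (twist (CohB1.polyGrading n k) 1)).presheaf.stalk P))} =
      {v | ∃ s ∈ {a | ∃ c : Fin (n + 1) → k, a = gphi n k r i P hP c ∧
          a ∈ IsLocalRing.maximalIdeal (X.presheaf.stalk P)}, v = s • bet n k r i P hP} := by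
    ext v
    constructor
    · rintro ⟨c, rfl, hv⟩
      rw [germ_secC n k pX r hr i P hP c] at hv ⊢
      exact ⟨_, ⟨c, rfl, (smul_mem_smul_top_iff _ hβ _ _).mp hv⟩, rfl⟩
    · rintro ⟨s, ⟨c, rfl, hs⟩, rfl⟩
      refine ⟨c, (germ_secC n k pX r hr i P hP c).symm, ?_⟩
      exact (smul_mem_smul_top_iff _ hβ _ _).mpr hs
  rw [hset]

end Groth.Agent.H5.SepPT
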