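import Mathlib
import Groth.Agent.Lib.Helper5.SepPT.F

set_option autoImplicit false
universe u
open CategoryTheory AlgebraicGeometry TopologicalSpace Opposite HomogeneousLocalization

namespace Groth.Agent.H5.SepPT

open Groth.Agent.LD Twist Groth.Agent.H2.PUP

variable (n : ℕ) (k : Type u) [Field k] {X : Scheme.{u}}
  (pX : X ⟶ Spec (CommRingCat.of k)) (r : X ⟶ Proj (CohB1.polyGrading n k))

/-- `s_c` vanishes at `P`. -/
def Van (c : Fin (n + 1) → k) (P : X) : Prop :=
  ((Scheme.Modules.pullback r).obj (twist (CohB1.polyGrading n k) 1)).presheaf.germ ⊤ P trivial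
      (secC n k pX r c) ∈
    IsLocalRing.maximalIdeal (X.presheaf.stalk P) •
      (⊤ : Submodule (X.presheaf.stalk P)
        (((Scheme.Modules.pullback r).obj (twist (CohB1.polyGrading n k) 1)).presheaf.stalk P))

/-- the tangent condition at `P`. -/
def Tan (P : X) : Prop :=
  IsLocalRing.maximalIdeal (X.presheaf.stalk P) •
      (⊤ : Submodule (X.presheaf.stalk P)
        (((Scheme.Modules.pullback r).obj (twist (CohB1.polyGrading n k) 1)).presheaf.stalk P)) ≤
    Submodule.span (X.presheaf.stalk P)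
      {v | ∃ c : Fin (n + 1) → k,
        v = ((Scheme.Modules.pullback r).obj (twist (CohB1.polyGrading n k) 1)).presheaf.germ
          ⊤ P trivial (secC n k pX r c) ∧
        v ∈ IsLocalRing.maximalIdeal (X.presheaf.stalk P) •
          (⊤ : Submodule (X.presheaf.stalk P)
            (((Scheme.Modules.pullback r).obj
              (twist (CohB1.polyGrading n k) 1)).presheaf.stalk P))} ⊔
      IsLocalRing.maximalIdeal (X.presheaf.stalk P) ^ 2 •
        (⊤ : Submodule (X.presheaf.stalk P)
          (((Scheme.Modules.pullback r).obj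
            (twist (CohB1.polyGrading n k) 1)).presheaf.stalk P))

lemma van_iff (hr : r ≫ projStr (CohB1.polyGrading n k) = pX) (c : Fin (n + 1) → k) (P : X) :
    Van n k pX r c P ↔ ιPn n k c ∈ (r P).asHomogeneousIdeal :=
  germ_secC_mem_iff n k pX r hr P c

variable [IsAlgClosed k]

theorem sep_of_CI (hr : r ≫ projStr (CohB1.polyGrading n k) = pX) [IsClosedImmersion r]
    (P Q : X) (hP : IsClosed ({P} : Set X)) (hQ : IsClosed ({Q} : Set X)) (hPQ : P ≠ Q) :
    ∃ c : Fin (n + 1) → k, Van n k pX r c P ∧ ¬ Van n k pX r c Q := by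
  have hcl : IsClosedMap r := r.isClosedEmbedding.isClosedMap
  have h1 : IsClosed ({r P} : Set (Proj (CohB1.polyGrading n k))) := by
    have := hcl _ hP
    rwa [Set.image_singleton] at this
  have h2 : IsClosed ({r Q} : Set (Proj (CohB1.polyGrading n k))) := by
    have := hcl _ hQ
    rwa [Set.image_singleton] at this
  have h3 : r P ≠ r Q := fun h => hPQ (r.isClosedEmbedding.injective h)
  obtain ⟨c, hc, hc'⟩ := exists_linear_sep n k (r P) (r Q) h1 h2 h3
  exact ⟨c, (van_iff n k pX r hr c P).mpr hc, fun h => hc' ((van_iff n k pX r hr c Q).mp h)⟩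

theorem tan_of_CI (hr : r ≫ projStr (CohB1.polyGrading n k) = pX) [IsClosedImmersion r]
    (P : X) (hP : IsClosed ({P} : Set X)) : Tan n k pX r P := by
  have hcl : IsClosedMap r := r.isClosedEmbedding.isClosedMap
  have h1 : IsClosed ({r P} : Set (Proj (CohB1.polyGrading n k))) := by
    have := hcl _ hP
    rwa [Set.image_singleton] at this
  obtain ⟨i, hPi⟩ := exists_mem_chart n k (r P)
  rw [Tan, tangent_iff n k pX r hr i P hPi]
  refine le_sup_of_le_left ?_
  intro z hz
  obtain ⟨w, rfl⟩ := r.stalkMap_surjective P z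
  have hw : w ∈ IsLocalRing.maximalIdeal ((Proj (CohB1.polyGrading n k)).presheaf.stalk (r P)) := by
    rw [IsLocalRing.mem_maximalIdeal, mem_nonunits_iff] at hz ⊢
    exact fun hu => hz (hu.map (r.stalkMap P).hom)
  have h2 := maximalIdeal_le_span n k i (r P) hPi h1 hw
  have h3 := Ideal.mem_map_of_mem (r.stalkMap P).hom h2
  rw [Ideal.map_span] at h3
  refine Ideal.span_mono ?_ h3
  rintro _ ⟨w', ⟨c, rfl, hc⟩, rfl⟩
  refine ⟨c, (gphi_eq n k r i P hPi c).symm, ?_⟩
  rw [← gphi_eq]
  exact (gphi_mem_iff n k r i P hPi c).mpr hc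

theorem CI_of_sep_tan (hr : r ≫ projStr (CohB1.polyGrading n k) = pX) [IsProper pX]
    (hsep : ∀ P Q : X, IsClosed ({P} : Set X) → IsClosed ({Q} : Set X) → P ≠ Q →
      ∃ c : Fin (n + 1) → k, (Van n k pX r c P ∧ ¬ Van n k pX r c Q) ∨
        (Van n k pX r c Q ∧ ¬ Van n k pX r c P))
    (htan : ∀ P : X, IsClosed ({P} : Set X) → Tan n k pX r P) : IsClosedImmersion r := by
  set 𝒜 := CohB1.polyGrading n k with h𝒜
  haveI : IsScalarTower k (𝒜 0) (MvPolynomial (Fin (n+1)) k) :=
    ⟨fun a p q => by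
      change ((a • p : 𝒜 0) : MvPolynomial (Fin (n+1)) k) * q =
        a • ((p : MvPolynomial (Fin (n+1)) k) * q)
      rw [Submodule.coe_smul, smul_mul_assoc]⟩
  haveI : Algebra.FiniteType (𝒜 0) (MvPolynomial (Fin (n+1)) k) :=
    Algebra.FiniteType.of_restrictScalars_finiteType k _ _
  haveI : IsClosedImmersion (Spec.map (CommRingCat.ofHom (algebraMap k (𝒜 0)))) :=
    IsClosedImmersion.spec_of_surjective _ (algebraMap_zero_surjective n k)
  haveI : IsSeparated (projStr 𝒜) := by unfold projStr; infer_instance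
  haveI : LocallyOfFiniteType (projStr 𝒜) := by unfold projStr; infer_instance
  haveI : QuasiCompact (projStr 𝒜) := by unfold projStr; infer_instance
  haveI : IsProper (r ≫ projStr 𝒜) := by rw [hr]; infer_instance
  haveI : IsProper r := IsProper.of_comp r (projStr 𝒜)
  haveI : JacobsonSpace (Proj 𝒜) := LocallyOfFiniteType.jacobsonSpace (projStr 𝒜)
  haveI : JacobsonSpace X := LocallyOfFiniteType.jacobsonSpace (r ≫ projStr 𝒜)
  have hinj : Set.InjOn r.base {x : X | IsClosed ({x} : Set X)} := by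
    intro P hP Q hQ hPQ
    by_contra hne
    obtain ⟨c, hc | hc⟩ := hsep P Q hP hQ hne
    · apply hc.2
      rw [van_iff n k pX r hr] at hc ⊢
      have h := hc.1
      rwa [show r P = r Q from hPQ] at h
    · apply hc.2
      rw [van_iff n k pX r hr] at hc ⊢
      have h := hc.1
      rwa [← show r P = r Q from hPQ] at h
  have hT : ∀ x : X, IsClosed ({x} : Set X) →
      Ideal.map (r.stalkMap x).hom (IsLocalRing.maximalIdeal ((Proj 𝒜).presheaf.stalk (r.base x))) ⊔
        IsLocalRing.maximalIdeal (X.presheaf.stalk x) ^ 2 =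
        IsLocalRing.maximalIdeal (X.presheaf.stalk x) := by
    intro P hP
    obtain ⟨i, hPi⟩ := exists_mem_chart n k (r P)
    have h1 := (tangent_iff n k pX r hr i P hPi).mp (htan P hP)
    apply le_antisymm
    · refine sup_le ?_ (Ideal.pow_le_self two_ne_zero)
      rw [Ideal.map_le_iff_le_comap]
      intro w hw
      rw [Ideal.mem_comap, IsLocalRing.mem_maximalIdeal, mem_nonunits_iff] at *
      exact fun hu => hw ((isUnit_map_iff (r.stalkMap P).hom _).mp hu)
    · refine h1.trans (sup_le_sup_right ?_ _)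
      rw [Ideal.span_le]
      rintro _ ⟨c, rfl, hc⟩
      rw [gphi_eq]
      apply Ideal.mem_map_of_mem
      rw [gphi_mem_iff] at hc
      exact (ρ_mk_mem_maximalIdeal_iff 𝒜 (hX n k i) (r P) hPi 1 (ιPn n k c)
        (ιPn_mem' n k c)).mpr hc
  haveI : IsFinite r := Groth.Agent.H5.CIcrit.isFinite_of_injOn r hinj
  rw [isClosedImmersion_iff_isAffineHom]
  exact ⟨inferInstance, fun V hV =>
    Groth.Agent.H5.CIcrit.app_surjective r k (projStr 𝒜) hinj hT V hV⟩

end Groth.Agent.H5.SepPT
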