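import Mathlib
import Groth.Agent.Lib.Helper5.SepPT.G

set_option autoImplicit false
universe u
open CategoryTheory AlgebraicGeometry

namespace Groth.Agent.H5.SepPT

/-- the structure morphism of projective space over a field is proper. -/
theorem isProper_toSpec (n : ℕ) (k : Type u) [Field k] :
    IsProper (CohB1.ProjSpace.toSpec n k) := by
  haveI : IsScalarTower k (CohB1.polyGrading n k 0) (MvPolynomial (Fin (n+1)) k) :=
    ⟨fun a p q => by
      change ((a • p : CohB1.polyGrading n k 0) : MvPolynomial (Fin (n+1)) k) * q =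
        a • ((p : MvPolynomial (Fin (n+1)) k) * q)
      rw [Submodule.coe_smul, smul_mul_assoc]⟩
  haveI : Algebra.FiniteType (CohB1.polyGrading n k 0) (MvPolynomial (Fin (n+1)) k) :=
    Algebra.FiniteType.of_restrictScalars_finiteType k _ _
  haveI : IsClosedImmersion
      (Spec.map (CommRingCat.ofHom (algebraMap k (CohB1.polyGrading n k 0)))) :=
    IsClosedImmersion.spec_of_surjective _ (algebraMap_zero_surjective n k)
  haveI h1 : IsProper (Proj.toSpecZero (CohB1.polyGrading n k)) := inferInstance
  haveI h2 : IsProper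
      (Spec.map (CommRingCat.ofHom (algebraMap k (CohB1.polyGrading n k 0)))) := inferInstance
  unfold CohB1.ProjSpace.toSpec
  exact MorphismProperty.comp_mem _ _ _ h1 h2

/-- a projective `k`-scheme is proper over `k`. -/
theorem isProper_of_proj (k : Type u) [Field k] {X : Scheme.{u}}
    (pX : X ⟶ Spec (CommRingCat.of k))
    (hproj : ∃ (N : ℕ) (ι : X ⟶ CohB1.ProjSpace N k),
      IsClosedImmersion ι ∧ ι ≫ CohB1.ProjSpace.toSpec N k = pX) : IsProper pX := by
  obtain ⟨N, ι, hι, rfl⟩ := hproj
  haveI := isProper_toSpec N k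
  infer_instance

end Groth.Agent.H5.SepPT
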